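import Groth.Agent.Lib.SmoothCurve.Curve
import Mathlib.AlgebraicGeometry.Morphisms.QuasiFinite
import Mathlib.AlgebraicGeometry.Morphisms.Finite
import Mathlib.AlgebraicGeometry.Noetherian

/-!
# Dominant morphisms of integral curves over a field
-/

set_option autoImplicit false

universe u

open CategoryTheory AlgebraicGeometry TopologicalSpace

namespace Groth.Agent.Lib.CurveMaps.Basic

variable {k : Type u} [Field k] {X Y : Scheme.{u}} (p : X ⟶ Spec (CommRingCat.of k))
  (q : Y ⟶ Spec (CommRingCat.of k)) (f : X ⟶ Y)

theorem isNoetherian_of_curve (p : X ⟶ Spec (CommRingCat.of k)) [LocallyOfFiniteType p] [QuasiCompact p] :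
    IsNoetherian X := by
  have : CompactSpace X := QuasiCompact.compactSpace_of_compactSpace p
  exact { __ := LocallyOfFiniteType.isLocallyNoetherian p }

theorem isClosed_image_singleton [LocallyOfFiniteType p] [LocallyOfFiniteType q] (hf : f ≫ q = p) {x : X}
    (hx : IsClosed ({x} : Set X)) : IsClosed ({f x} : Set Y) := by
  have : LocallyOfFiniteType (f ≫ q) := hf ▸ inferInstance
  have : LocallyOfFiniteType f := locallyOfFiniteType_of_comp f q
  have : JacobsonSpace Y := LocallyOfFiniteType.jacobsonSpace q
  exact Scheme.Hom.closePoints_subset_preimage_closedPoints f hx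

/-- A generic-point preserving morphism of curves over a field is locally quasi-finite. -/
theorem locallyQuasiFinite [IsIntegral X] [IsIntegral Y] [LocallyOfFiniteType p] [QuasiCompact p]
    [LocallyOfFiniteType q] [QuasiSeparatedSpace Y] (hX : topologicalKrullDim X = 1)
    (hY : topologicalKrullDim Y = 1) (hf : f ≫ q = p) (hgen : f (genericPoint X) = genericPoint Y) :
    LocallyQuasiFinite f := by
  have : LocallyOfFiniteType (f ≫ q) := hf ▸ inferInstance
  have : LocallyOfFiniteType f := locallyOfFiniteType_of_comp f q
  have : CompactSpace X := QuasiCompact.compactSpace_of_compactSpace p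
  have : IsNoetherian X := isNoetherian_of_curve p
  rw [locallyQuasiFinite_iff_finite_preimage_singleton]
  intro y
  rcases SmoothCurve.Curve.eq_genericPoint_or_isClosed hY y with hy | hy
  · subst hy
    refine (Set.finite_singleton (genericPoint X)).subset fun x hx => ?_
    rcases SmoothCurve.Curve.eq_genericPoint_or_isClosed hX x with h | h
    · exact h
    · exfalso
      have h1 := isClosed_image_singleton p q f hf h
      rw [Set.mem_preimage, Set.mem_singleton_iff] at hx
      rw [hx] at h1
      have := SmoothCurve.Stalk.ne_genericPoint_of_isClosed (by rw [hY]; exact one_ne_zero) h1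
      exact this rfl
  · refine SmoothCurve.Curve.finite_of_isClosed hX (hy.preimage f.continuous) fun h => ?_
    rw [Set.mem_preimage, Set.mem_singleton_iff, hgen] at h
    exact SmoothCurve.Stalk.ne_genericPoint_of_isClosed (by rw [hY]; exact one_ne_zero) hy h.symm

/-- A nonconstant morphism of curves preserves the generic point. -/
theorem map_genericPoint [IsIntegral X] [IsIntegral Y] (hY : topologicalKrullDim Y = 1)
    (hnc : (Set.range f).Nontrivial) : f (genericPoint X) = genericPoint Y := by
  rcases SmoothCurve.Curve.eq_genericPoint_or_isClosed hY (f (genericPoint X)) with h | h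
  · exact h
  · exfalso
    obtain ⟨a, ⟨xa, rfl⟩, b, ⟨xb, rfl⟩, hab⟩ := hnc
    have hall : ∀ x : X, f x = f (genericPoint X) := fun x => by
      have := ((genericPoint_spec X).specializes trivial : genericPoint X ⤳ x).map f.continuous
      exact Set.mem_singleton_iff.mp (h.closure_eq ▸ specializes_iff_mem_closure.mp this)
    exact hab ((hall xa).trans (hall xb).symm)

end Groth.Agent.Lib.CurveMaps.Basic
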